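import Groth.Agent.MVTri.Basic
import Mathlib.CategoryTheory.Shift.Adjunction
import Mathlib.CategoryTheory.Adjunction.Limits
import Mathlib.CategoryTheory.Limits.Preserves.Shapes.Zero

/-!
Glueing along a Mayer–Vietoris square of triangulated categories.
-/

set_option autoImplicit false
set_option linter.style.haveILetI false
universe v u

open CategoryTheory CategoryTheory.Limits CategoryTheory.Pretriangulated W4c3perfectstacks

namespace Groth.Agent.MVGlue

variable {S S' R R' : Type u} [Category.{v} S] [Category.{v} S'] [Category.{v} R] [Category.{v} R']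
  (q : MVSq S S' R R')

lemma bcApp_naturality {M M' : S'} (φ : M ⟶ M') :
    q.jst.map (q.fls.map φ) ≫ q.bcApp M' = q.bcApp M ≫ q.gls.map (q.jpst.map φ) := by
  have he := q.e.hom.naturality (q.fls.map φ)
  simp only [Functor.comp_map] at he
  simp only [MVSq.bcApp, Category.assoc]
  rw [← q.adjG.unit_naturality_assoc, ← Functor.map_comp, ← Functor.map_comp, ← Functor.map_comp,
    ← Functor.map_comp, ← Functor.map_comp]
  congr 2
  rw [← Category.assoc, he, Category.assoc, ← Functor.map_comp]
  congr 2
  exact q.adjF.counit_naturality φ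

lemma homEquiv_symm_comp_bc2App {X : S} {P : R} (x : X ⟶ q.jls.obj P) :
    (q.adjJp.homEquiv _ _).symm (q.fst.map x ≫ q.bc2App P) =
      q.e.inv.app X ≫ q.gst.map ((q.adjJ.homEquiv X P).symm x) := by
  have he := q.e.inv.naturality x
  simp only [Functor.comp_map] at he
  simp only [MVSq.bc2App, Adjunction.homEquiv_counit, Functor.map_comp, Category.assoc]
  rw [← reassoc_of% he]
  simp only [Category.assoc, q.adjJp.counit_naturality, q.adjJp.counit_naturality_assoc,
    q.adjJp.left_triangle_components_assoc]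

variable [HasZeroMorphisms S] [HasZeroMorphisms S'] [HasZeroMorphisms R] [HasZeroMorphisms R']

lemma isZero_jst_fls [q.gls.PreservesZeroMorphisms] (hq : q.IsMV) {W : S'} (hW : IsZero (q.jpst.obj W)) :
    IsZero (q.jst.obj (q.fls.obj W)) := by
  haveI := hq.isIso_bcApp W
  exact (q.gls.map_isZero hW).of_iso (asIso (q.bcApp W))

lemma isZero_jpst_fst [q.gst.PreservesZeroMorphisms] {X : S} (hX : IsZero (q.jst.obj X)) :
    IsZero (q.jpst.obj (q.fst.obj X)) :=
  (q.gst.map_isZero hX).of_iso (q.e.app X).symm

lemma eq_zero_to_fls_jpls [q.gst.PreservesZeroMorphisms] [HasZeroMorphisms S'] {X : S} (hX : IsZero (q.jst.obj X))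
    {P : R'} (h : X ⟶ q.fls.obj (q.jpls.obj P)) [q.fst.PreservesZeroMorphisms] : h = 0 := by
  apply (q.adjF.homEquiv _ _).symm.injective
  apply (q.adjJp.homEquiv _ _).symm.injective
  exact (isZero_jpst_fst q hX).eq_of_src _ _

/-- Full faithfulness of `f^*` on maps into objects killed by `j^*`. -/
lemma exists_fst_map_eq (hq : q.IsMV) {X K : S} (hK : IsZero (q.jst.obj K)) (h : q.fst.obj X ⟶ q.fst.obj K) :
    ∃ t : X ⟶ K, q.fst.map t = h := by
  haveI := hq.isIso_unitF K hK
  refine ⟨q.adjF.homEquiv _ _ h ≫ inv (q.adjF.unit.app K), (q.adjF.homEquiv _ _).injective ?_⟩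
  rw [q.adjF.homEquiv_unit, q.adjF.unit_naturality, Category.assoc, IsIso.inv_hom_id, Category.comp_id]

end Groth.Agent.MVGlue
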