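import Groth.Agent.MVGlue.Triangle
import Groth.Agent.Compact.Basic
import Groth.Agent.S16408

/-!
Compactness is local along a Mayer–Vietoris square.
-/

set_option autoImplicit false
set_option linter.style.haveILetI false
universe v u

open CategoryTheory CategoryTheory.Limits CategoryTheory.Pretriangulated W4c3perfectstacks

namespace Groth.Agent.MVGlue

section Sum

variable {D E : Type u} [Category.{v} D] [Category.{v} E] [Preadditive E]
  {ι : Type v} {X : ι → D} [HasCoproduct X]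

/-- The canonical map `⊕ Hom(K, L X_i) → Hom(K, L (∐ X))`. -/
noncomputable def sumMap (L : D ⥤ E) (K : E) (X : ι → D) [HasCoproduct X] :
    DirectSum ι (fun i => K ⟶ L.obj (X i)) →+ (K ⟶ L.obj (∐ X)) := by
  classical
  exact DirectSum.toAddMonoid fun i => Preadditive.rightComp K (L.map (Sigma.ι X i))

lemma sumMap_of [DecidableEq ι] (L : D ⥤ E) (K : E) (i : ι) (g : K ⟶ L.obj (X i)) :
    sumMap L K X (DirectSum.of _ i g) = g ≫ L.map (Sigma.ι X i) := by
  classical
  unfold sumMap
  convert DirectSum.toAddMonoid_of (β := fun i => K ⟶ L.obj (X i)) _ i g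
  rfl

lemma sumMap_natural {E' : Type u} [Category.{v} E'] [Preadditive E'] {L : D ⥤ E} {L' : D ⥤ E'} {K : E} {K' : E'}
    (φ : ∀ i, (K ⟶ L.obj (X i)) →+ (K' ⟶ L'.obj (X i))) (ψ : (K ⟶ L.obj (∐ X)) →+ (K' ⟶ L'.obj (∐ X)))
    (h : ∀ i g, ψ (g ≫ L.map (Sigma.ι X i)) = φ i g ≫ L'.map (Sigma.ι X i))
    (x : DirectSum ι (fun i => K ⟶ L.obj (X i))) :
    ψ (sumMap L K X x) = sumMap L' K' X (DirectSum.map φ x) := by
  classical
  induction x using DirectSum.induction_on with
  | zero => simp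
  | of i g => rw [DirectSum.map_of, sumMap_of, sumMap_of, h]
  | add x y hx hy => simp [hx, hy]

variable [HasCoproducts.{v} D] [HasCoproducts.{v} E]

lemma sumMap_bijective (L : D ⥤ E) [PreservesColimitsOfShape (Discrete ι) L] {K : E}
    (hK : CohDer.IsCompactObject K) (X : ι → D) : Function.Bijective (sumMap L K X) := by
  classical
  have key : ∀ x, sumMap L K X x =
      CohDer.homSumToHomCoprod K (fun i => L.obj (X i)) x ≫ sigmaComparison L X := by
    intro x
    induction x using DirectSum.induction_on with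
    | zero => simp
    | of i g => rw [sumMap_of, Compact.hom_of, Category.assoc, ι_comp_sigmaComparison]
    | add x y hx hy => simp [hx, hy]
  rw [show ⇑(sumMap L K X) = _ from funext key]
  exact ((Iso.homToEquiv (asIso (sigmaComparison L X)) (Z := K)).bijective).comp (hK ι _)

end Sum

variable {S S' R R' : Type u} [Category.{v} S] [Category.{v} S'] [Category.{v} R] [Category.{v} R']
  [Preadditive S] [Preadditive S'] [Preadditive R] [Preadditive R']
  [HasZeroObject S] [HasZeroObject S'] [HasZeroObject R] [HasZeroObject R']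
  [HasShift S ℤ] [HasShift S' ℤ] [HasShift R ℤ] [HasShift R' ℤ]
  [∀ n : ℤ, (shiftFunctor S n).Additive] [∀ n : ℤ, (shiftFunctor S' n).Additive]
  [∀ n : ℤ, (shiftFunctor R n).Additive] [∀ n : ℤ, (shiftFunctor R' n).Additive]
  [Pretriangulated S] [Pretriangulated S'] [Pretriangulated R] [Pretriangulated R']
  [IsTriangulated S] [IsTriangulated S'] [IsTriangulated R] [IsTriangulated R']
  (q : MVSq S S' R R')
  [q.jst.CommShift ℤ] [q.fst.CommShift ℤ] [q.jpst.CommShift ℤ] [q.gst.CommShift ℤ]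
  [q.jst.IsTriangulated] [q.fst.IsTriangulated] [q.jpst.IsTriangulated] [q.gst.IsTriangulated]

/-- `f_* f^* j_* j^*`. -/
abbrev zF : S ⥤ S := q.jst ⋙ q.jls ⋙ q.fst ⋙ q.fls

omit [IsTriangulated S] [IsTriangulated S'] [IsTriangulated R] [IsTriangulated R'] in
lemma bc2App_naturality {P P' : R} (a : P ⟶ P') :
    q.fst.map (q.jls.map a) ≫ q.bc2App P' = q.bc2App P ≫ q.jpls.map (q.gst.map a) := by
  apply (q.adjJp.homEquiv _ _).symm.injective
  rw [homEquiv_symm_comp_bc2App, q.adjJp.homEquiv_naturality_right_symm]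
  have h := homEquiv_symm_comp_bc2App q (𝟙 (q.jls.obj P))
  rw [q.fst.map_id, Category.id_comp] at h
  rw [h, Category.assoc, ← q.gst.map_comp]
  congr 2
  simp [Adjunction.homEquiv_counit]

/-- `Hom(K, f_* f^* j_* j^* M) → Hom(g^* j^* K, g^* j^* M)`. -/
noncomputable def θ (K M : S) :
    (K ⟶ (zF q).obj M) →+ (q.gst.obj (q.jst.obj K) ⟶ q.gst.obj (q.jst.obj M)) :=
  AddMonoidHom.mk' (fun h => q.e.hom.app K ≫
      q.jpst.map (q.fst.map h ≫ q.adjF.counit.app _ ≫ q.bc2App (q.jst.obj M)) ≫ q.adjJp.counit.app _)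
    (fun a b => by simp [Preadditive.add_comp, Preadditive.comp_add])

omit [IsTriangulated S] [IsTriangulated S'] [IsTriangulated R] [IsTriangulated R'] in
lemma θ_eq (K M : S) (h : K ⟶ (zF q).obj M) :
    θ q K M h = q.e.hom.app K ≫ (q.adjJp.homEquiv _ _).symm
      ((q.adjF.homEquiv _ _).symm h ≫ q.bc2App (q.jst.obj M)) := by
  change q.e.hom.app K ≫ _ = _
  rw [Adjunction.homEquiv_counit, Adjunction.homEquiv_counit, Category.assoc]

omit [IsTriangulated S] [IsTriangulated S'] [IsTriangulated R] [IsTriangulated R'] in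
lemma θ_bijective (hq : q.IsMV) (K M : S) : Function.Bijective (θ q K M) := by
  haveI := hq.isIso_bc2App (q.jst.obj M)
  rw [show ⇑(θ q K M) = _ from funext (θ_eq q K M)]
  exact ((Iso.homFromEquiv (q.e.app K).symm).bijective).comp ((q.adjJp.homEquiv _ _).symm.bijective.comp
    ((Iso.homToEquiv (asIso (q.bc2App (q.jst.obj M)))).bijective.comp (q.adjF.homEquiv _ _).symm.bijective))

omit [IsTriangulated S] [IsTriangulated S'] [IsTriangulated R] [IsTriangulated R'] in
lemma θ_natural (K : S) {M M' : S} (φ : M ⟶ M') (h : K ⟶ (zF q).obj M) :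
    θ q K M' (h ≫ (zF q).map φ) = θ q K M h ≫ q.gst.map (q.jst.map φ) := by
  rw [θ_eq, θ_eq, Category.assoc, ← q.adjJp.homEquiv_naturality_right_symm, Category.assoc,
    ← bc2App_naturality]
  congr 2
  exact ((congrArg (· ≫ _) (q.adjF.homEquiv_naturality_right_symm h (q.fst.map (q.jls.map (q.jst.map φ))))).trans
    (Category.assoc _ _ _))

omit [IsTriangulated S] [IsTriangulated S'] [IsTriangulated R] [IsTriangulated R'] in
/-- The difference map in terms of the restrictions. -/
lemma θ_desc (K M : S) (u : K ⟶ q.jls.obj (q.jst.obj M)) (v : K ⟶ q.fls.obj (q.fst.obj M)) :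
    θ q K M (biprod.lift u v ≫ biprod.desc (q.adjF.unit.app (q.jls.obj (q.jst.obj M)))
        (-(q.fls.map (q.fst.map (q.adjJ.unit.app M))))) =
      q.gst.map ((q.adjJ.homEquiv _ _).symm u) -
        (q.e.hom.app K ≫ q.jpst.map ((q.adjF.homEquiv _ _).symm v) ≫ q.e.inv.app M :
          q.gst.obj (q.jst.obj K) ⟶ q.gst.obj (q.jst.obj M)) := by
  rw [biprod.lift_desc, Preadditive.comp_neg, ← sub_eq_add_neg, map_sub]
  congr 1
  · rw [θ_eq, q.adjF.homEquiv_naturality_left_symm]
    have : (q.adjF.homEquiv (q.jls.obj (q.jst.obj M)) (q.fst.obj (q.jls.obj (q.jst.obj M)))).symm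
        (q.adjF.unit.app (q.jls.obj (q.jst.obj M))) = 𝟙 _ := by
      simp [Adjunction.homEquiv_counit]
    rw [this, Category.comp_id, homEquiv_symm_comp_bc2App]
    exact (q.e.app K).hom_inv_id_assoc _
  · rw [θ_eq, q.adjF.homEquiv_naturality_right_symm, Category.assoc, q.adjJp.homEquiv_naturality_left_symm,
      homEquiv_symm_comp_bc2App]
    congr 2
    rw [show (q.adjJ.homEquiv M (q.jst.obj M)).symm (q.adjJ.unit.app M) = 𝟙 _ by
      simp [Adjunction.homEquiv_counit]]
    exact ((congrArg (_ ≫ ·) (q.gst.map_id _)).trans (Category.comp_id _))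

variable [HasCoproducts.{v} S] [HasCoproducts.{v} S'] [HasCoproducts.{v} R] [HasCoproducts.{v} R']

omit [Preadditive S] [HasZeroObject S] [HasShift S ℤ] [∀ n : ℤ, (shiftFunctor S n).Additive] [Pretriangulated S]
  [IsTriangulated S] in
lemma exists_directSum {ι : Type v} {β γ : ι → Type v} [∀ i, AddCommGroup (β i)] [∀ i, AddCommGroup (γ i)]
    (φ : ∀ i, γ i →+ β i) (x : DirectSum ι β) (h : ∀ i, x i ∈ Set.range (φ i)) :
    ∃ y : DirectSum ι γ, DirectSum.map φ y = x := by
  classical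
  choose g hg using h
  refine ⟨DirectSum.mk _ (DFinsupp.support x) fun i => g i.1, DirectSum.ext fun i => ?_⟩
  rw [DirectSum.map_apply]
  by_cases hi : i ∈ DFinsupp.support x
  · rw [DirectSum.mk_apply_of_mem hi]
    exact hg i
  · rw [DirectSum.mk_apply_of_notMem hi, map_zero]
    exact (DFinsupp.notMem_support_iff.mp hi).symm

theorem isCompactObject_of_pullbacks (hq : q.IsMV) (N : S) (hU : CohDer.IsCompactObject (q.jst.obj N))
    (hX' : CohDer.IsCompactObject (q.fst.obj N)) (hU' : CohDer.IsCompactObject (q.gst.obj (q.jst.obj N))) :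
    CohDer.IsCompactObject N := by
  classical
  have hU1 : CohDer.IsCompactObject (q.jst.obj (N⟦(1 : ℤ)⟧)) :=
    Compact.isCompact_of_retract (Retract.ofIso ((q.jst.commShiftIso (1 : ℤ)).app N))
      (Compact.isCompact_shift hU 1)
  have hX1 : CohDer.IsCompactObject (q.fst.obj (N⟦(1 : ℤ)⟧)) :=
    Compact.isCompact_of_retract (Retract.ofIso ((q.fst.commShiftIso (1 : ℤ)).app N))
      (Compact.isCompact_shift hX' 1)
  have hU'1 : CohDer.IsCompactObject (q.gst.obj (q.jst.obj (N⟦(1 : ℤ)⟧))) :=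
    Compact.isCompact_of_retract (Retract.ofIso (q.gst.mapIso ((q.jst.commShiftIso (1 : ℤ)).app N) ≪≫
      (q.gst.commShiftIso (1 : ℤ)).app (q.jst.obj N))) (Compact.isCompact_shift hU' 1)
  choose d hd using fun M : S => exists_mayerVietoris_triangle q hq M
  have hnat : ∀ {M M' : S} (φ : M ⟶ M'), d M ≫ φ⟦(1 : ℤ)⟧' = (zF q).map φ ≫ d M' := fun {M M'} φ =>
    S16408.result S S' R R' q hq M M' φ (d M) (d M') (hd M) (hd M')
  -- adjoint forms of exactness
  let pj : ∀ (K M : S), (K ⟶ M) →+ (q.jst.obj K ⟶ q.jst.obj M) := fun K M => q.jst.mapAddHom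
  let pf : ∀ (K M : S), (K ⟶ M) →+ (q.fst.obj K ⟶ q.fst.obj M) := fun K M => q.fst.mapAddHom
  let dl : ∀ (K M : S), ((q.jst.obj K ⟶ q.jst.obj M) × (q.fst.obj K ⟶ q.fst.obj M)) →+
      (q.gst.obj (q.jst.obj K) ⟶ q.gst.obj (q.jst.obj M)) := fun K M =>
    AddMonoidHom.mk' (fun p => q.gst.map p.1 -
        (q.e.hom.app K ≫ q.jpst.map p.2 ≫ q.e.inv.app M : q.gst.obj (q.jst.obj K) ⟶ q.gst.obj (q.jst.obj M)))
      (fun a b => by simp [Preadditive.add_comp, Preadditive.comp_add]; abel)
  let θe : ∀ (K M : S), (K ⟶ (zF q).obj M) ≃+ (q.gst.obj (q.jst.obj K) ⟶ q.gst.obj (q.jst.obj M)) :=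
    fun K M => AddEquiv.ofBijective (θ q K M) (θ_bijective q hq K M)
  let bd : ∀ M : S, (q.gst.obj (q.jst.obj (N⟦(1 : ℤ)⟧)) ⟶ q.gst.obj (q.jst.obj M)) →+ (N ⟶ M) := fun M =>
    AddMonoidHom.mk' (fun w => (shiftFunctor S (1 : ℤ)).preimage ((θe _ M).symm w ≫ d M))
      (fun a b => (shiftFunctor S (1 : ℤ)).map_injective (by
        simp [Preadditive.add_comp]))
  have hbd : ∀ (M : S) w, (bd M w)⟦(1 : ℤ)⟧' = (θe _ M).symm w ≫ d M := fun M w =>
    (shiftFunctor S (1 : ℤ)).map_preimage _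
  have hsplit : ∀ {K M : S} (h : K ⟶ q.jls.obj (q.jst.obj M) ⊞ q.fls.obj (q.fst.obj M)),
      h = biprod.lift (h ≫ biprod.fst) (h ≫ biprod.snd) := fun h => by
    apply biprod.hom_ext <;> simp
  have unitJ : ∀ {K M : S} (t : K ⟶ M),
      (q.adjJ.homEquiv _ _).symm (t ≫ q.adjJ.unit.app M) = q.jst.map t := fun t => by
    simp [Adjunction.homEquiv_counit]
  have unitF : ∀ {K M : S} (t : K ⟶ M),
      (q.adjF.homEquiv _ _).symm (t ≫ q.adjF.unit.app M) = q.fst.map t := fun t => by
    simp [Adjunction.homEquiv_counit]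
  have exA : ∀ {M : S} (p : q.jst.obj N ⟶ q.jst.obj M) (r : q.fst.obj N ⟶ q.fst.obj M),
      dl N M (p, r) = 0 → ∃ t : N ⟶ M, q.jst.map t = p ∧ q.fst.map t = r := by
    intro M p r h0
    obtain ⟨t, ht⟩ := Triangle.coyoneda_exact₂ _ (hd M)
      (biprod.lift (q.adjJ.homEquiv _ _ p) (q.adjF.homEquiv _ _ r)) (by
        apply (θ_bijective q hq N M).1
        refine Eq.trans ?_ (map_zero (θ q N M)).symm
        refine (θ_desc q N M _ _).trans ?_
        rw [Equiv.symm_apply_apply, Equiv.symm_apply_apply]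
        exact h0)
    change N ⟶ M at t
    refine ⟨t, ?_, ?_⟩
    · rw [← unitJ]
      refine (q.adjJ.homEquiv _ _).symm_apply_eq.2 ?_
      exact ((Category.assoc _ _ _).trans (congrArg (t ≫ ·) (biprod.lift_fst _ _))).symm.trans
        ((congrArg (· ≫ biprod.fst) ht).symm.trans (biprod.lift_fst _ _))
    · rw [← unitF]
      refine (q.adjF.homEquiv _ _).symm_apply_eq.2 ?_
      exact ((Category.assoc _ _ _).trans (congrArg (t ≫ ·) (biprod.lift_snd _ _))).symm.trans
        ((congrArg (· ≫ biprod.snd) ht).symm.trans (biprod.lift_snd _ _))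
  have exIm : ∀ {M : S} (t : N ⟶ M), q.jst.map t = 0 → q.fst.map t = 0 → t ∈ Set.range (bd M) := by
    intro M t h1 h2
    have e1 : t ≫ q.adjJ.unit.app M = 0 := by
      refine (q.adjJ.homEquiv _ _).symm.injective ?_
      rw [unitJ, h1]
      simp [Adjunction.homEquiv_counit]
    have e2 : t ≫ q.adjF.unit.app M = 0 := by
      refine (q.adjF.homEquiv _ _).symm.injective ?_
      rw [unitF, h2]
      simp [Adjunction.homEquiv_counit]
    have e3 : t ≫ biprod.lift (q.adjJ.unit.app M) (q.adjF.unit.app M) = 0 := by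
      apply biprod.hom_ext <;> simp [e1, e2]
    obtain ⟨w, hw⟩ := Triangle.coyoneda_exact₁ _ (hd M) (t⟦(1 : ℤ)⟧')
      ((Functor.map_comp _ _ _).symm.trans ((congrArg _ e3).trans (Functor.map_zero _ _ _)))
    refine ⟨θe _ M w, (shiftFunctor S (1 : ℤ)).map_injective ?_⟩
    rw [hbd, AddEquiv.symm_apply_apply]
    exact hw.symm
  have exKer : ∀ {M : S} w, bd M w = 0 → ∃ p r, dl (N⟦(1 : ℤ)⟧) M (p, r) = w := by
    intro M w h0
    obtain ⟨h, hh⟩ := Triangle.coyoneda_exact₃ _ (hd M) ((θe _ M).symm w)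
      ((hbd M w).symm.trans ((congrArg _ h0).trans (Functor.map_zero _ _ _)))
    change N⟦(1 : ℤ)⟧ ⟶ q.jls.obj (q.jst.obj M) ⊞ q.fls.obj (q.fst.obj M) at h
    refine ⟨_, _, ((θ_desc q _ M (h ≫ biprod.fst) (h ≫ biprod.snd)).symm.trans ?_)⟩
    rw [← hsplit h]
    exact ((congrArg (θ q _ M) hh.symm).trans ((θe _ M).apply_symm_apply w))
  have exCplx : ∀ {M : S} (p : q.jst.obj (N⟦(1 : ℤ)⟧) ⟶ q.jst.obj M)
      (r : q.fst.obj (N⟦(1 : ℤ)⟧) ⟶ q.fst.obj M), bd M (dl _ M (p, r)) = 0 := by
    intro M p r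
    have h : (θe _ M).symm (dl _ M (p, r)) =
        biprod.lift (q.adjJ.homEquiv _ _ p) (q.adjF.homEquiv _ _ r) ≫
          biprod.desc (q.adjF.unit.app (q.jls.obj (q.jst.obj M)))
            (-(q.fls.map (q.fst.map (q.adjJ.unit.app M)))) := by
      rw [AddEquiv.symm_apply_eq]
      refine Eq.trans ?_ (θ_desc q _ M _ _).symm
      rw [Equiv.symm_apply_apply, Equiv.symm_apply_apply]
      rfl
    apply (shiftFunctor S (1 : ℤ)).map_injective
    rw [hbd, h, Category.assoc, Functor.map_zero]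
    exact (congrArg (_ ≫ ·) (comp_distTriang_mor_zero₂₃ _ (hd M))).trans comp_zero
  intro ι X
  haveI := q.adjJ.leftAdjoint_preservesColimits.{v, v}
  haveI := q.adjF.leftAdjoint_preservesColimits.{v, v}
  haveI := q.adjG.leftAdjoint_preservesColimits.{v, v}
  let G : S ⥤ R' := q.jst ⋙ q.gst
  have bJ := sumMap_bijective q.jst hU X
  have bF := sumMap_bijective q.fst hX' X
  have bG := sumMap_bijective G hU' X
  have bJ1 := sumMap_bijective q.jst hU1 X
  have bF1 := sumMap_bijective q.fst hX1 X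
  have bG1 := sumMap_bijective G hU'1 X
  have hΦ : ∀ x, CohDer.homSumToHomCoprod N X x = sumMap (𝟭 S) N X x := fun x => by
    induction x using DirectSum.induction_on with
    | zero => simp
    | of i g => rw [Compact.hom_of]; exact (sumMap_of (𝟭 S) N i g).symm
    | add x y hx hy => simp [hx, hy]
  have natJ : ∀ x, q.jst.map (sumMap (𝟭 S) N X x) =
      sumMap q.jst (q.jst.obj N) X (DirectSum.map (fun i => pj N (X i)) x) :=
    sumMap_natural (L := 𝟭 S) (L' := q.jst) (K := N) (K' := q.jst.obj N) (X := X) (fun i => pj N (X i)) (pj N (∐ X)) (fun i g => q.jst.map_comp g _)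
  have natF : ∀ x, q.fst.map (sumMap (𝟭 S) N X x) =
      sumMap q.fst (q.fst.obj N) X (DirectSum.map (fun i => pf N (X i)) x) :=
    sumMap_natural (L := 𝟭 S) (L' := q.fst) (K := N) (K' := q.fst.obj N) (X := X) (fun i => pf N (X i)) (pf N (∐ X)) (fun i g => q.fst.map_comp g _)
  have natB : ∀ x, bd (∐ X) (sumMap G _ X x) = sumMap (𝟭 S) N X (DirectSum.map (fun i => bd (X i)) x) :=
    sumMap_natural (L := G) (L' := 𝟭 S) (K' := N) (X := X) (fun i => bd (X i)) (bd (∐ X)) (fun i g => (shiftFunctor S (1 : ℤ)).map_injective (by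
      refine (hbd (∐ X) _).trans (Eq.trans ?_ (((shiftFunctor S (1 : ℤ)).map_comp (bd (X i) g) _).trans
        (congrArg (· ≫ _) (hbd (X i) g))).symm)
      have : (θe _ (∐ X)).symm (g ≫ G.map (Sigma.ι X i)) =
          (θe _ (X i)).symm g ≫ (zF q).map (Sigma.ι X i) := by
        rw [AddEquiv.symm_apply_eq]
        refine Eq.trans ?_ (θ_natural q _ (Sigma.ι X i) _).symm
        exact congrArg (· ≫ _) ((θe _ (X i)).apply_symm_apply g).symm
      rw [this]
      exact (Category.assoc _ _ _).trans ((congrArg (_ ≫ ·) (hnat (Sigma.ι X i)).symm).trans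
        (Category.assoc _ _ _).symm)))
  have natD : ∀ (K : S) P Q, dl K (∐ X) (sumMap q.jst _ X P, sumMap q.fst _ X Q) =
      sumMap G _ X (DirectSum.map (fun i => (dl K (X i)).comp (AddMonoidHom.inl _ _)) P +
        DirectSum.map (fun i => (dl K (X i)).comp (AddMonoidHom.inr _ _)) Q) := by
    intro K P Q
    rw [map_add, ← sumMap_natural (L := q.jst) (L' := G) (fun i => (dl K (X i)).comp (AddMonoidHom.inl _ _))
        ((dl K (∐ X)).comp (AddMonoidHom.inl _ _)) (fun i g => ?_),
      ← sumMap_natural (L := q.fst) (L' := G) (fun i => (dl K (X i)).comp (AddMonoidHom.inr _ _))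
        ((dl K (∐ X)).comp (AddMonoidHom.inr _ _)) (fun i g => ?_)]
    · simp [← map_add]
    · have he := q.e.inv.naturality (Sigma.ι X i)
      simp only [Functor.comp_map] at he
      simp [dl, G, he]
    · simp [dl, G]
  have natD' : ∀ (K : S) P Q (i : ι), (DirectSum.map (fun i => (dl K (X i)).comp (AddMonoidHom.inl _ _)) P +
      DirectSum.map (fun i => (dl K (X i)).comp (AddMonoidHom.inr _ _)) Q) i = dl K (X i) (P i, Q i) := by
    intro K P Q i
    rw [DirectSum.add_apply, DirectSum.map_apply, DirectSum.map_apply]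
    simp [← map_add]
  constructor
  · rw [injective_iff_map_eq_zero]
    intro x hx
    rw [hΦ] at hx
    have h1 : DirectSum.map (fun i => pj N (X i)) x = 0 :=
      bJ.1 (by rw [← natJ, hx, Functor.map_zero, map_zero])
    have h2 : DirectSum.map (fun i => pf N (X i)) x = 0 :=
      bF.1 (by rw [← natF, hx, Functor.map_zero, map_zero])
    obtain ⟨W, rfl⟩ := exists_directSum (fun i => bd (X i)) x fun i =>
      exIm _ (by simpa [pj] using congrArg (fun y => y i) h1) (by simpa [pf] using congrArg (fun y => y i) h2)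
    rw [← natB] at hx
    obtain ⟨p, r, hpr⟩ := exKer _ hx
    obtain ⟨P, rfl⟩ := bJ1.2 p
    obtain ⟨Q, rfl⟩ := bF1.2 r
    rw [natD] at hpr
    rw [← bG1.1 hpr]
    refine DirectSum.ext fun i => ?_
    rw [DirectSum.map_apply, natD', exCplx]
    rfl
  · intro f
    obtain ⟨P, hP⟩ := bJ.2 (q.jst.map f)
    obtain ⟨Q, hQ⟩ := bF.2 (q.fst.map f)
    have h0 : dl N (∐ X) (q.jst.map f, q.fst.map f) = 0 := by
      have he := q.e.hom.naturality f
      simp only [Functor.comp_map] at he
      change q.gst.map (q.jst.map f) - (q.e.hom.app N ≫ q.jpst.map (q.fst.map f) ≫ q.e.inv.app (∐ X) :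
        q.gst.obj (q.jst.obj N) ⟶ q.gst.obj (q.jst.obj (∐ X))) = 0
      rw [← reassoc_of% he, sub_eq_zero]
      exact ((congrArg (_ ≫ ·) (q.e.app (∐ X)).hom_inv_id).trans (Category.comp_id _)).symm
    rw [← hP, ← hQ, natD] at h0
    have h0' := bG.1 (h0.trans (map_zero _).symm)
    have hex : ∀ i, ∃ t : N ⟶ X i, q.jst.map t = P i ∧ q.fst.map t = Q i := fun i =>
      exA _ _ ((natD' N P Q i).symm.trans (congrArg (fun y => y i) h0'))
    choose t ht1 ht2 using hex
    let T : DirectSum ι (fun i => N ⟶ X i) :=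
      DirectSum.mk _ (DFinsupp.support P ∪ DFinsupp.support Q) fun i => t i.1
    have hT : ∀ i, q.jst.map (T i) = P i ∧ q.fst.map (T i) = Q i := fun i => by
      by_cases hi : i ∈ DFinsupp.support P ∪ DFinsupp.support Q
      · exact ⟨by simp only [T, DirectSum.mk_apply_of_mem hi]; exact ht1 i,
          by simp only [T, DirectSum.mk_apply_of_mem hi]; exact ht2 i⟩
      · rw [Finset.mem_union, not_or] at hi
        have hi' : i ∉ DFinsupp.support P ∪ DFinsupp.support Q := by simp [hi.1, hi.2]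
        simp only [T, DirectSum.mk_apply_of_notMem hi', Functor.map_zero]
        exact ⟨(DFinsupp.notMem_support_iff.mp hi.1).symm, (DFinsupp.notMem_support_iff.mp hi.2).symm⟩
    have hTJ : DirectSum.map (fun i => pj N (X i)) T = P :=
      DirectSum.ext fun i => by rw [DirectSum.map_apply]; exact (hT i).1
    have hTF : DirectSum.map (fun i => pf N (X i)) T = Q :=
      DirectSum.ext fun i => by rw [DirectSum.map_apply]; exact (hT i).2
    let g : N ⟶ ∐ X := sumMap (𝟭 S) N X T
    obtain ⟨w, hw⟩ := exIm (f - g)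
      (by rw [Functor.map_sub, show q.jst.map g = _ from natJ T, hTJ, hP, sub_self])
      (by rw [Functor.map_sub, show q.fst.map g = _ from natF T, hTF, hQ, sub_self])
    obtain ⟨W, rfl⟩ := bG1.2 w
    rw [natB] at hw
    exact ⟨DirectSum.map (fun i => bd (X i)) W + T, by rw [hΦ, map_add, hw, sub_add_cancel]⟩

end Groth.Agent.MVGlue
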