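import Groth.Agent.MVGlue.Basic

/-!
The glued object restricts to the given data.
-/

set_option autoImplicit false
set_option linter.style.haveILetI false
universe v u

open CategoryTheory CategoryTheory.Limits CategoryTheory.Pretriangulated W4c3perfectstacks

namespace Groth.Agent.MVGlue

variable {S S' R R' : Type u} [Category.{v} S] [Category.{v} S'] [Category.{v} R] [Category.{v} R']
  [Preadditive S] [Preadditive S'] [Preadditive R] [Preadditive R']
  [HasZeroObject S] [HasZeroObject S'] [HasZeroObject R] [HasZeroObject R']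
  [HasShift S ℤ] [HasShift S' ℤ] [HasShift R ℤ] [HasShift R' ℤ]
  [∀ n : ℤ, (shiftFunctor S n).Additive] [∀ n : ℤ, (shiftFunctor S' n).Additive]
  [∀ n : ℤ, (shiftFunctor R n).Additive] [∀ n : ℤ, (shiftFunctor R' n).Additive]
  [Pretriangulated S] [Pretriangulated S'] [Pretriangulated R] [Pretriangulated R']
  (q : MVSq S S' R R')
  [q.jst.CommShift ℤ] [q.fst.CommShift ℤ] [q.jpst.CommShift ℤ] [q.gst.CommShift ℤ]
  [q.jst.IsTriangulated] [q.fst.IsTriangulated] [q.jpst.IsTriangulated] [q.gst.IsTriangulated]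

/-- A triangle with a split epi middle component computes the first projection. -/
lemma isIso_jst_of_split {N P Q Z : S} {a : N ⟶ P ⊞ Q} {α : P ⟶ Z} {β : Q ⟶ Z} {d : Z ⟶ N⟦(1 : ℤ)⟧}
    (hT : Triangle.mk a (biprod.desc α (-β)) d ∈ distTriang S) [IsIso (q.jst.map β)] :
    IsIso (q.jst.map (a ≫ biprod.fst)) := by
  let T' := q.jst.mapTriangle.obj (Triangle.mk a (biprod.desc α (-β)) d)
  have hT' : T' ∈ distTriang R := q.jst.map_distinguished _ hT
  have hr : inv (q.jst.map β) ≫ (-q.jst.map (biprod.inr : Q ⟶ P ⊞ Q)) ≫ q.jst.map (biprod.desc α (-β)) = 𝟙 _ := by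
    rw [Preadditive.neg_comp, ← q.jst.map_comp, biprod.inr_desc, q.jst.map_neg, neg_neg, IsIso.inv_hom_id]
  have he : Epi T'.mor₂ :=
    (SplitEpi.mk (inv (q.jst.map β) ≫ (-q.jst.map (biprod.inr : Q ⟶ P ⊞ Q))) ((Category.assoc _ _ _).trans hr)).epi
  haveI : Mono (q.jst.map a) :=
    (T'.mor₃_eq_zero_iff_mono₁ hT').1 ((T'.mor₃_eq_zero_iff_epi₂ hT').2 he)
  let k : q.jst.obj P ⟶ q.jst.obj (P ⊞ Q) :=
    q.jst.map biprod.inl + (q.jst.map α ≫ inv (q.jst.map β)) ≫ q.jst.map biprod.inr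
  have hk : k ≫ q.jst.map (biprod.desc α (-β)) = 0 := by
    simp only [k, Preadditive.add_comp, Category.assoc, ← q.jst.map_comp, biprod.inl_desc, biprod.inr_desc,
      q.jst.map_neg, Preadditive.comp_neg, IsIso.inv_hom_id, Category.comp_id, add_neg_cancel]
  obtain ⟨k', hk'⟩ := Triangle.coyoneda_exact₂ _ hT' k hk
  change q.jst.obj P ⟶ q.jst.obj N at k'
  change k = k' ≫ q.jst.map a at hk'
  have h1 : k' ≫ q.jst.map (a ≫ biprod.fst) = 𝟙 _ := by
    rw [q.jst.map_comp, ← Category.assoc, ← hk']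
    simp only [k, Preadditive.add_comp, Category.assoc, ← q.jst.map_comp, biprod.inl_fst, biprod.inr_fst,
      q.jst.map_id, q.jst.map_zero, comp_zero, add_zero]
  refine ⟨k', ?_, h1⟩
  rw [← cancel_mono (q.jst.map a), Category.assoc, ← hk', Category.id_comp]
  have hz : a ≫ biprod.desc α (-β) = 0 := comp_distTriang_mor_zero₁₂ _ hT
  have hαβ : (a ≫ biprod.fst) ≫ α = (a ≫ biprod.snd) ≫ β := by
    rw [← sub_eq_zero, ← hz, biprod.desc_eq]
    simp [Preadditive.comp_add, sub_eq_add_neg]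
  simp only [k, Preadditive.comp_add]
  rw [Category.assoc (q.jst.map α), ← q.jst.map_comp_assoc, hαβ, q.jst.map_comp_assoc (a ≫ biprod.snd) β, IsIso.hom_inv_id_assoc,
    ← q.jst.map_comp, ← q.jst.map_comp, ← q.jst.map_add]
  congr 1
  apply biprod.hom_ext <;> simp

theorem isIso_of_glueing_triangle (hq : q.IsMV) (NU : R) (N' : S') (δ : q.jpst.obj N' ≅ q.gst.obj NU) (N : S)
    (a : N ⟶ q.jls.obj NU ⊞ q.fls.obj N')
    (d : q.fls.obj (q.jpls.obj (q.gst.obj NU)) ⟶ N⟦(1 : ℤ)⟧)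
    (hT : Triangle.mk a
      (biprod.desc (q.adjF.unit.app (q.jls.obj NU) ≫ q.fls.map (q.bc2App NU))
        (-(q.fls.map (q.adjJp.unit.app N' ≫ q.jpls.map δ.hom)))) d ∈ distTriang S) :
    IsIso ((q.adjJ.homEquiv N NU).symm (a ≫ biprod.fst)) ∧
      IsIso ((q.adjF.homEquiv N N').symm (a ≫ biprod.snd)) := by
  haveI := hq.isIso_counitJ
  haveI := hq.isIso_counitJp
  haveI := q.adjG.rightAdjoint_preservesLimits.{0, 0}
  haveI : PreservesFiniteProducts q.gls := ⟨fun _ => inferInstance⟩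
  haveI : q.gls.Additive := Functor.additive_of_preserves_binary_products _
  let γ : N' ⟶ q.jpls.obj (q.gst.obj NU) := q.adjJp.unit.app N' ≫ q.jpls.map δ.hom
  haveI : IsIso (q.jpst.map (q.adjJp.unit.app N')) :=
    have : IsIso (q.jpst.map (q.adjJp.unit.app N') ≫ q.adjJp.counit.app (q.jpst.obj N')) :=
      (q.adjJp.left_triangle_components N').symm ▸ IsIso.id _
    IsIso.of_isIso_comp_right _ (q.adjJp.counit.app (q.jpst.obj N'))
  haveI : IsIso (q.jpst.map γ) := by
    rw [q.jpst.map_comp]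
    infer_instance
  haveI hjβ : IsIso (q.jst.map (q.fls.map γ)) := by
    haveI := hq.isIso_bcApp N'
    haveI := hq.isIso_bcApp (q.jpls.obj (q.gst.obj NU))
    exact IsIso.of_isIso_fac_right (bcApp_naturality q γ)
  haveI := isIso_jst_of_split q hT
  have hu : IsIso ((q.adjJ.homEquiv N NU).symm (a ≫ biprod.fst)) := by
    rw [Adjunction.homEquiv_counit]
    infer_instance
  refine ⟨hu, ?_⟩
  set v := (q.adjF.homEquiv N N').symm (a ≫ biprod.snd) with hv
  -- the compatibility of the two components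
  have hαβ : (a ≫ biprod.fst) ≫ (q.adjF.unit.app (q.jls.obj NU) ≫ q.fls.map (q.bc2App NU)) =
      (a ≫ biprod.snd) ≫ q.fls.map γ := by
    rw [← sub_eq_zero, ← show a ≫ biprod.desc (q.adjF.unit.app (q.jls.obj NU) ≫ q.fls.map (q.bc2App NU))
      (-(q.fls.map γ)) = 0 from comp_distTriang_mor_zero₁₂ _ hT, biprod.desc_eq]
    simp [Preadditive.comp_add, sub_eq_add_neg]
  have h1 : q.fst.map (a ≫ biprod.fst) ≫ q.bc2App NU = v ≫ γ := by
    have h0 := congrArg (q.adjF.homEquiv _ _).symm hαβ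
    rw [q.adjF.homEquiv_naturality_right_symm, q.adjF.homEquiv_naturality_left_symm] at h0
    rw [hv, ← h0]
    congr 1
    rw [Adjunction.homEquiv_counit, Functor.map_comp, Category.assoc, q.adjF.counit_naturality,
      q.adjF.left_triangle_components_assoc]
  haveI : IsIso (q.jpst.map v) := by
    have h2 : q.jpst.map v ≫ δ.hom =
        q.e.inv.app N ≫ q.gst.map ((q.adjJ.homEquiv N NU).symm (a ≫ biprod.fst)) := by
      rw [← homEquiv_symm_comp_bc2App, h1, q.adjJp.homEquiv_naturality_left_symm]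
      congr 1
      rw [Adjunction.homEquiv_counit]
      simp [γ]
    exact IsIso.of_isIso_fac_right h2
  -- maps from objects killed by `j^*` into the third vertex vanish
  have z3 : ∀ {X : S}, IsZero (q.jst.obj X) → ∀ h : X ⟶ q.fls.obj (q.jpls.obj (q.gst.obj NU)), h = 0 :=
    fun hX h => eq_zero_to_fls_jpls q hX h
  have inj : ∀ {W : S'}, IsZero (q.jpst.obj W) → ∀ w : W ⟶ q.fst.obj N, w ≫ v = 0 → w = 0 := by
    intro W hW w hw
    haveI := hq.isIso_counitF W hW
    have hW0 := isZero_jst_fls q hq hW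
    rw [← cancel_epi (q.adjF.counit.app W), comp_zero]
    obtain ⟨K, i, δK, hK⟩ := distinguished_cocone_triangle₁ (q.adjJ.unit.app N)
    have hK' := q.jst.map_distinguished _ hK
    have hK0 : IsZero (q.jst.obj K) := by
      haveI : IsIso (q.jst.map (q.adjJ.unit.app N)) :=
        have : IsIso (q.jst.map (q.adjJ.unit.app N) ≫ q.adjJ.counit.app (q.jst.obj N)) :=
          (q.adjJ.left_triangle_components N).symm ▸ IsIso.id _
        IsIso.of_isIso_comp_right _ (q.adjJ.counit.app (q.jst.obj N))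
      exact (Triangle.isZero₁_iff_isIso₂ _ hK').2 this
    obtain ⟨w', hw'⟩ := Triangle.coyoneda_exact₂ _ (q.fst.map_distinguished _ hK)
      (q.adjF.counit.app W ≫ w) (MVTri.eq_zero_to_fst_jls q hq (isZero_jpst_fst q hW0) _)
    change q.fst.obj (q.fls.obj W) ⟶ q.fst.obj K at w'
    change q.adjF.counit.app W ≫ w = w' ≫ q.fst.map i at hw'
    obtain ⟨t₀, rfl⟩ := exists_fst_map_eq q hq hK0 w'
    rw [← q.fst.map_comp] at hw'
    have ha1 : (t₀ ≫ i) ≫ a ≫ biprod.fst = 0 := MVTri.eq_zero_of_isZero_left q.adjJ hW0 _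
    have ha2 : (t₀ ≫ i) ≫ a ≫ biprod.snd = 0 := by
      apply (q.adjF.homEquiv _ _).symm.injective
      rw [q.adjF.homEquiv_naturality_left_symm, ← hw', Category.assoc]
      change q.adjF.counit.app W ≫ w ≫ v = _
      rw [hw, comp_zero, Adjunction.homEquiv_counit, Functor.map_zero, zero_comp]
    have ha : (t₀ ≫ i) ≫ a = 0 :=
      biprod.hom_ext _ _ (by rw [Category.assoc, ha1, zero_comp]) (by rw [Category.assoc, ha2, zero_comp])
    obtain ⟨z, hz⟩ := Triangle.coyoneda_exact₁ _ hT ((t₀ ≫ i)⟦(1 : ℤ)⟧')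
      ((Functor.map_comp _ _ _).symm.trans ((congrArg _ ha).trans (Functor.map_zero _ _ _)))
    have hs : IsZero (q.jst.obj ((q.fls.obj W)⟦(1 : ℤ)⟧)) :=
      ((shiftFunctor R (1 : ℤ)).map_isZero hW0).of_iso ((q.jst.commShiftIso (1 : ℤ)).app _)
    have hz' := hz.trans ((congrArg (· ≫ _) (z3 hs z)).trans zero_comp)
    exact hw'.trans ((congrArg q.fst.map
      ((shiftFunctor S (1 : ℤ)).map_injective (hz'.trans (Functor.map_zero _ _ _).symm))).trans
        (Functor.map_zero _ _ _))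
  have surj : ∀ {W : S'}, IsZero (q.jpst.obj W) → ∀ g : W ⟶ N', ∃ w : W ⟶ q.fst.obj N, w ≫ v = g := by
    intro W hW g
    haveI := hq.isIso_counitF W hW
    have hW0 := isZero_jst_fls q hq hW
    obtain ⟨t, ht⟩ := Triangle.coyoneda_exact₂ _ hT
      (biprod.lift 0 (q.adjF.homEquiv _ _ (q.adjF.counit.app W ≫ g))) (z3 hW0 _)
    change q.fls.obj W ⟶ N at t
    change biprod.lift _ _ = t ≫ a at ht
    refine ⟨inv (q.adjF.counit.app W) ≫ q.fst.map t, ?_⟩
    have : q.fst.map t ≫ v = q.adjF.counit.app W ≫ g := by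
      rw [hv, ← q.adjF.homEquiv_naturality_left_symm, ← Category.assoc, ← ht, biprod.lift_snd,
        Equiv.symm_apply_apply]
    rw [Category.assoc, this, IsIso.inv_hom_id_assoc]
  obtain ⟨K, i, p, hK⟩ := distinguished_cocone_triangle₁ v
  have hK0 : IsZero (q.jpst.obj K) :=
    (Triangle.isZero₁_iff_isIso₂ _ (q.jpst.map_distinguished _ hK)).2 (inferInstanceAs (IsIso (q.jpst.map v)))
  have hi : i = 0 := inj hK0 i (comp_distTriang_mor_zero₁₂ _ hK)
  obtain ⟨s, hs⟩ := Triangle.coyoneda_exact₁ _ hK (𝟙 (K⟦(1 : ℤ)⟧))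
    ((Category.id_comp _).trans ((congrArg _ hi).trans (Functor.map_zero _ _ _)))
  change K⟦(1 : ℤ)⟧ ⟶ N' at s
  obtain ⟨t, ht⟩ := surj
    (((shiftFunctor R' (1 : ℤ)).map_isZero hK0).of_iso ((q.jpst.commShiftIso (1 : ℤ)).app _)) s
  have hvp : v ≫ p = 0 := comp_distTriang_mor_zero₂₃ _ hK
  have h0 : 𝟙 (K⟦(1 : ℤ)⟧) = 0 :=
    hs.trans ((congrArg (· ≫ p) ht.symm).trans ((Category.assoc _ _ _).trans
      ((congrArg (t ≫ ·) hvp).trans comp_zero)))
  have hKz : IsZero K := by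
    rw [IsZero.iff_id_eq_zero]
    exact (shiftFunctor S' (1 : ℤ)).map_injective
      (((shiftFunctor S' (1 : ℤ)).map_id K).trans (h0.trans (Functor.map_zero _ _ _).symm))
  exact (Triangle.isZero₁_iff_isIso₂ _ hK).1 hKz

end Groth.Agent.MVGlue
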