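import Groth.Agent.MVGlue.Main

/-!
Existence of Mayer–Vietoris triangles.
-/

set_option autoImplicit false
set_option linter.style.haveILetI false
universe v u

open CategoryTheory CategoryTheory.Limits CategoryTheory.Pretriangulated W4c3perfectstacks

namespace Groth.Agent.MVGlue

variable {S S' R R' : Type u} [Category.{v} S] [Category.{v} S'] [Category.{v} R] [Category.{v} R']
  [Preadditive S] [Preadditive S'] [Preadditive R] [Preadditive R']
  [HasZeroObject S] [HasZeroObject S'] [HasZeroObject R] [HasZeroObject R']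
  [HasShift S ℤ] [HasShift S' ℤ] [HasShift R ℤ] [HasShift R' ℤ]
  [∀ n : ℤ, (shiftFunctor S n).Additive] [∀ n : ℤ, (shiftFunctor S' n).Additive]
  [∀ n : ℤ, (shiftFunctor R n).Additive] [∀ n : ℤ, (shiftFunctor R' n).Additive]
  [Pretriangulated S] [Pretriangulated S'] [Pretriangulated R] [Pretriangulated R']
  (q : MVSq S S' R R')
  [q.jst.CommShift ℤ] [q.fst.CommShift ℤ] [q.jpst.CommShift ℤ] [q.gst.CommShift ℤ]
  [q.jst.IsTriangulated] [q.fst.IsTriangulated] [q.jpst.IsTriangulated] [q.gst.IsTriangulated]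

theorem exists_mayerVietoris_triangle (hq : q.IsMV) (N : S) :
    ∃ d : q.fls.obj (q.fst.obj (q.jls.obj (q.jst.obj N))) ⟶ N⟦(1 : ℤ)⟧,
      Triangle.mk (biprod.lift (q.adjJ.unit.app N) (q.adjF.unit.app N))
        (biprod.desc (q.adjF.unit.app (q.jls.obj (q.jst.obj N)))
          (-(q.fls.map (q.fst.map (q.adjJ.unit.app N))))) d ∈ distTriang S := by
  haveI := hq.isIso_bc2App (q.jst.obj N)
  haveI := q.adjF.rightAdjoint_preservesLimits.{0, 0}
  haveI : PreservesFiniteProducts q.fls := ⟨fun _ => inferInstance⟩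
  haveI : q.fls.Additive := Functor.additive_of_preserves_binary_products _
  let NU := q.jst.obj N
  let N' := q.fst.obj N
  let δ : q.jpst.obj N' ≅ q.gst.obj NU := (q.e.app N).symm
  let b := q.fls.map (q.bc2App NU)
  let m : q.jls.obj NU ⊞ q.fls.obj N' ⟶ q.fls.obj (q.jpls.obj (q.gst.obj NU)) :=
    biprod.desc (q.adjF.unit.app (q.jls.obj NU) ≫ b) (-(q.fls.map (q.adjJp.unit.app N' ≫ q.jpls.map δ.hom)))
  have hγ : q.fst.map (q.adjJ.unit.app N) ≫ q.bc2App NU = q.adjJp.unit.app N' ≫ q.jpls.map δ.hom := by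
    apply (q.adjJp.homEquiv _ _).symm.injective
    rw [homEquiv_symm_comp_bc2App]
    refine Eq.trans ?_ ((Equiv.symm_apply_apply _ δ.hom).symm.trans
      (congrArg _ (q.adjJp.homEquiv_unit (X := N') (f := δ.hom))))
    rw [Adjunction.homEquiv_counit]
    refine ((congrArg (fun x => _ ≫ q.gst.map x) (q.adjJ.left_triangle_components N))).trans ?_
    exact (congrArg (_ ≫ ·) (q.gst.map_id _)).trans (Category.comp_id _)
  obtain ⟨N₂, a, d, hT⟩ := distinguished_cocone_triangle₁ m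
  obtain ⟨hu, hv⟩ := isIso_of_glueing_triangle q hq NU N' δ N₂ a d hT
  have hz : biprod.lift (q.adjJ.unit.app N) (q.adjF.unit.app N) ≫ m = 0 := by
    simp only [m, b, ← hγ, q.fls.map_comp, biprod.lift_desc, Preadditive.comp_neg]
    rw [← sub_eq_add_neg, sub_eq_zero, ← Category.assoc, ← Category.assoc]
    exact congrArg (· ≫ _) (q.adjF.unit.naturality (q.adjJ.unit.app N))
  obtain ⟨φ, hφ⟩ := Triangle.coyoneda_exact₂ _ hT _ hz
  change N ⟶ N₂ at φ
  change biprod.lift _ _ = φ ≫ a at hφ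
  haveI hj : IsIso (q.jst.map φ) := by
    have h1 : q.jst.map φ ≫ (q.adjJ.homEquiv N₂ NU).symm (a ≫ biprod.fst) = 𝟙 _ := by
      rw [← q.adjJ.homEquiv_naturality_left_symm, ← Category.assoc, ← hφ, biprod.lift_fst,
        Adjunction.homEquiv_counit, q.adjJ.left_triangle_components]
    exact IsIso.of_isIso_fac_right h1
  haveI hf : IsIso (q.fst.map φ) := by
    have h1 : q.fst.map φ ≫ (q.adjF.homEquiv N₂ N').symm (a ≫ biprod.snd) = 𝟙 _ := by
      rw [← q.adjF.homEquiv_naturality_left_symm, ← Category.assoc, ← hφ, biprod.lift_snd,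
        Adjunction.homEquiv_counit, q.adjF.left_triangle_components]
    exact IsIso.of_isIso_fac_right h1
  obtain ⟨C, g, e, hC⟩ := distinguished_cocone_triangle φ
  haveI hφ' : IsIso φ := by
    refine (Triangle.isZero₃_iff_isIso₁ _ hC).1 ?_
    have h1 : IsZero (q.jst.obj C) := (Triangle.isZero₃_iff_isIso₁ _ (q.jst.map_distinguished _ hC)).2 hj
    have h2 : IsZero (q.fst.obj C) := (Triangle.isZero₃_iff_isIso₁ _ (q.fst.map_distinguished _ hC)).2 hf
    haveI := hq.isIso_unitF C h1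
    exact (q.fls.map_isZero h2).of_iso (@asIso _ _ _ _ _ (hq.isIso_unitF C h1))
  have hb : IsIso b := Functor.map_isIso q.fls (q.bc2App NU)
  refine ⟨b ≫ d ≫ (inv φ)⟦(1 : ℤ)⟧', isomorphic_distinguished _ hT _ ?_⟩
  refine Triangle.isoMk _ _ (@asIso _ _ _ _ φ hφ') (Iso.refl _) (@asIso _ _ _ _ b hb) ?_ ?_ ?_
  · exact (Category.comp_id _).trans hφ
  · change _ ≫ b = 𝟙 _ ≫ m
    rw [Category.id_comp]
    apply biprod.hom_ext'
    · simp [m]
      rfl
    · simp [m, b, ← hγ]
  · change (b ≫ d ≫ (inv φ)⟦(1 : ℤ)⟧') ≫ φ⟦(1 : ℤ)⟧' = b ≫ d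
    rw [Category.assoc, Category.assoc, ← Functor.map_comp, IsIso.inv_hom_id, CategoryTheory.Functor.map_id,
      Category.comp_id]

end Groth.Agent.MVGlue
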